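import Groth.Agent.Lib.AntiAffine.Basic
import Groth.Prelude.Def_ega3
import Mathlib.AlgebraicGeometry.Pullbacks

/-!
# Morphisms whose fibres have only constant functions
-/

set_option autoImplicit false
set_option linter.style.haveILetI false
set_option backward.isDefEq.respectTransparency false

universe u

noncomputable section

open CategoryTheory CategoryTheory.Limits AlgebraicGeometry

namespace GrothLib.PicRigid6

/-- The base changes to fields have only constant functions. -/
def Cnst {X S : Scheme.{u}} (h : X ⟶ S) : Prop :=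
  ∀ (K : Type u) [Field K] (k : Spec (CommRingCat.of K) ⟶ S), IsIso (pullback.snd h k).appTop

theorem isIso_appTop_congr {A A' T : Scheme.{u}} (e : A ⟶ A') [IsIso e] {a : A ⟶ T} (a' : A' ⟶ T)
    (w : e ≫ a' = a) [IsIso a'.appTop] : IsIso a.appTop := by
  subst w
  rw [Scheme.Hom.comp_appTop]
  infer_instance

theorem isIso_appTop_of_app {A T : Scheme.{u}} (a : A ⟶ T) (h : ∀ U, IsIso (a.app U)) : IsIso a.appTop := h ⊤

theorem Cnst.pullback {X S T : Scheme.{u}} {h : X ⟶ S} (hh : Cnst h) (u : T ⟶ S) :
    Cnst (pullback.snd h u) := fun K _ k => by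
  haveI := hh K (k ≫ u)
  exact isIso_appTop_congr (pullbackLeftPullbackSndIso h u k).hom _ (pullbackLeftPullbackSndIso_hom_snd h u k)

theorem Cnst.finrank {X S : Scheme.{u}} {h : X ⟶ S} (hh : Cnst h) (s : S) :
    Module.finrank (S.residueField s) Γ(h.fiber s, ⊤) = 1 := by
  haveI : IsIso (h.fiberToSpecResidueField s).appTop := hh (S.residueField s) (S.fromSpecResidueField s)
  have hb : Function.Bijective (algebraMap (S.residueField s) Γ(h.fiber s, ⊤)) :=
    ConcreteCategory.bijective_of_isIso
      ((Scheme.ΓSpecIso (S.residueField s)).inv ≫ (h.fiberToSpecResidueField s).appTop)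
  exact (LinearEquiv.ofBijective (Algebra.linearMap (S.residueField s) Γ(h.fiber s, ⊤)) hb).finrank_eq.symm.trans
    (Module.finrank_self _)

theorem Cnst.isAntiAffine {X S : Scheme.{u}} {h : X ⟶ S} (hh : Cnst h) {K : Type u} [Field K]
    (k : Spec (CommRingCat.of K) ⟶ S) : AntiAffine.IsAntiAffine (Over.mk (Limits.pullback.snd h k)) := by
  haveI := hh K k
  exact ConcreteCategory.bijective_of_isIso
    ((Scheme.ΓSpecIso (CommRingCat.of K)).inv ≫ (Limits.pullback.snd h k).appTop)

/-- The product of two morphisms with constant functions universally has constant functions. -/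
theorem cnst_product {X Y S : Scheme.{u}} (f : X ⟶ S) (g : Y ⟶ S)
    (hOf : ∀ (T : Scheme.{u}) (t : T ⟶ S) (U : T.Opens), IsIso ((Limits.pullback.snd f t).app U))
    (hOg : ∀ (T : Scheme.{u}) (t : T ⟶ S) (U : T.Opens), IsIso ((Limits.pullback.snd g t).app U)) :
    Cnst (Limits.pullback.fst f g ≫ f) := fun K _ k => by
  let XK := Limits.pullback f k
  let pX : XK ⟶ X := Limits.pullback.fst f k
  let PK := Limits.pullback g (pX ≫ f)
  haveI : IsIso (Limits.pullback.snd f k).appTop := isIso_appTop_of_app _ (hOf _ k)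
  haveI : IsIso (Limits.pullback.snd g (pX ≫ f)).appTop := isIso_appTop_of_app _ (hOg _ _)
  let a : PK ⟶ Limits.pullback f g := Limits.pullback.lift (Limits.pullback.snd g (pX ≫ f) ≫ pX)
    (Limits.pullback.fst g (pX ≫ f)) (by rw [Category.assoc, ← Limits.pullback.condition])
  have sq₁ : IsPullback a (Limits.pullback.snd g (pX ≫ f)) (Limits.pullback.fst f g) pX := by
    refine IsPullback.of_right ?_ (Limits.pullback.lift_fst _ _ _) (IsPullback.of_hasPullback f g).flip
    rw [Limits.pullback.lift_snd]
    exact IsPullback.of_hasPullback g (pX ≫ f)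
  have sq : IsPullback a (Limits.pullback.snd g (pX ≫ f) ≫ Limits.pullback.snd f k) (Limits.pullback.fst f g ≫ f) k :=
    sq₁.paste_vert (IsPullback.of_hasPullback f k)
  haveI : IsIso (Limits.pullback.snd g (pX ≫ f) ≫ Limits.pullback.snd f k).appTop := by
    rw [Scheme.Hom.comp_appTop]
    infer_instance
  exact isIso_appTop_congr sq.isoPullback.inv _ sq.isoPullback_inv_snd

end GrothLib.PicRigid6
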