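import Groth.Agent.Lib.Seesaw26.LocalGood

/-!
# Triviality near one point of good base change
-/

set_option autoImplicit false
set_option linter.style.haveILetI false
set_option backward.isDefEq.respectTransparency false
set_option maxHeartbeats 1000000
universe u

noncomputable section

open CategoryTheory CategoryTheory.Limits AlgebraicGeometry Opposite TopologicalSpace
open GrothLib.Ample GrothLib.Seesaw26

namespace GrothLib.PicRigid6

variable {X Y : Scheme.{u}} (f : X ⟶ Y)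

/-- Near a point of good base change with trivial fibre, a module is trivial. -/
theorem exists_nhd_gen_of_good_at [IsProper f] [Flat f] [LocallyOfFinitePresentation f]
    (c : Cocycle X) {L : X.Modules} (eL : L ≅ c.twist 1) (y : Y)
    (h0 : Module.finrank (Y.residueField y) Γ(f.fiber y, ⊤) = 1)
    (htriv : Cube.Triv (c.comap (f.fiberι y)))
    (hgood : BCCrit.GoodAll f L ((0 : ℕ) : ℤ) y) :
    ∃ U : Y.Opens, y ∈ U ∧ Nonempty ((Scheme.Modules.pullback (f ⁻¹ᵁ U).ι).obj (c.twist 1) ≅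
      Coh.structureModule (f ⁻¹ᵁ U).toScheme) := by
  obtain ⟨V, hV, hyV, -⟩ := exists_isAffineOpen_mem_and_subset (x := y) (U := (⊤ : Y.Opens)) trivial
  let A := Γ(Y, V)
  let j := (f ⁻¹ᵁ V).ι
  let fV := BCCoh.affBase f hV
  let d := c.comap j
  let G := L.restrict j
  have hL : PicF.IsInvertible L := c.isInvertible_of_iso eL
  haveI : L.IsQuasicoherent := InvExt.isQuasicoherent_of_isInvertible hL
  haveI : G.IsQuasicoherent := inferInstance
  haveI : IsProper fV := inferInstance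
  obtain ⟨m⟩ := BCCrit.nonempty_model_affine_fp f hV L
    (LocFree8.isFP_of_isFinLocFree _ (Euler.isFinLocFree_of_isInvertible hL)) (isFlatOver_of_isInvertible f hL)
  have hrank : CohIII.fiberRank f L 0 y = 1 := by
    obtain ⟨e⟩ := c.nonempty_pullback_twist (f.fiberι y) 1
    obtain ⟨t⟩ := (Cube.triv_iff _).1 htriv
    exact fiberRank_eq_one f _ y h0 ⟨(Scheme.Modules.pullback (f.fiberι y)).mapIso eL ≪≫ e ≪≫ t⟩
  let P := hV.primeIdealOf ⟨y, hyV⟩
  obtain ⟨ψ, k, hk, H, hker⟩ := BCCoh.exists_field_map f hV y hyV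
  obtain ⟨s, hs⟩ := exists_unit_app_ne_zero m P (Y.residueField y) ψ hker (f.fiberToSpecResidueField y) k H
    (hgood V hV hyV m)
    (by rw [← BCCoh.Model.fiberRank_affine f hV L m 0 y hyV, hrank]; exact one_pos)
  obtain ⟨e⟩ := c.nonempty_pullback_twist j 1
  let i₀ : G ≅ d.twist 1 := (Scheme.Modules.restrictFunctorIsoPullback j).app L ≪≫
    (Scheme.Modules.pullback j).mapIso eL ≪≫ e
  let a : d.sect 1 ⊤ := i₀.hom.app ⊤ s
  obtain ⟨e'⟩ := d.nonempty_pullback_twist k 1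
  -- the image of `a` on the fibre
  let η := (Scheme.Modules.pullbackPushforwardAdjunction k).unit
  let b : (d.comap k).sect 1 ⊤ := e'.hom.app ⊤ ((η.app (d.twist 1)).app ⊤ a)
  have hb : b ≠ 0 := fun h => by
    refine hs ?_
    have h1 : (η.app (d.twist 1)).app ⊤ a = 0 :=
      ((ConcreteCategory.isIso_iff_bijective _).1 (Scheme.Modules.Hom.isIso_iff_isIso_app.1 inferInstance (⊤ : (f.fiber y).Opens))).1
        ((show e'.hom.app ⊤ ((η.app (d.twist 1)).app ⊤ a) = e'.hom.app ⊤ 0 from h.trans (map_zero _).symm))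
    have h2 := congrArg (fun q => q.app ⊤ s) (η.naturality i₀.hom)
    refine ((ConcreteCategory.isIso_iff_bijective _).1
      (Scheme.Modules.Hom.isIso_iff_isIso_app.1 (inferInstance :
        IsIso ((Scheme.Modules.pullback k ⋙ Scheme.Modules.pushforward k).map i₀.hom)) ⊤)).1 ?_
    exact (h2.symm.trans h1).trans (map_zero _).symm
  have hdk : Cube.Triv (d.comap k) := by
    rw [← Cube.cls_eq_one_iff, ← Cube.pull_cls, ← Cube.pull_cls, Cube.pull_comp, hk, Cube.pull_cls,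
      Cube.cls_eq_one_iff]
    exact htriv
  have hlocus := locus_eq_top_of_ne_zero h0 (d.comap k) hdk hb
  have hfib : ∀ w : f.fiber y, k w ∈ d.locus a := fun w => by
    obtain ⟨i, hi⟩ := d.exists_mem (k w)
    by_contra hw
    rw [d.mem_locus_iff a hi] at hw
    let r : Γ((f ⁻¹ᵁ V).toScheme, d.D i) := res (le_inf le_top le_rfl) (a.1 i)
    let t : (d.comap k).sect 1 (k ⁻¹ᵁ d.D i) :=
      e'.hom.app (k ⁻¹ᵁ d.D i) ((η.app (d.twist 1)).app (d.D i) (d.base 1 i le_rfl))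
    have h1 : (d.comap k).sectRes (le_top : k ⁻¹ᵁ d.D i ≤ ⊤) b = (k.app (d.D i) r : Γ(f.fiber y, k ⁻¹ᵁ d.D i)) • t := by
      refine (app_mres e'.hom (le_top : k ⁻¹ᵁ d.D i ≤ ⊤) _).symm.trans ?_
      refine Eq.trans (congrArg (e'.hom.app (k ⁻¹ᵁ d.D i)) ?_) (app_smul e'.hom (k.app (d.D i) r) _)
      refine (app_mres (η.app (d.twist 1)) (le_top : d.D i ≤ ⊤) a).symm.trans ?_
      refine (congrArg ((η.app (d.twist 1)).app (d.D i)) ?_).trans (app_smul (η.app (d.twist 1)) r _)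
      refine (d.eq_smul_base i le_rfl (d.sectRes le_top a)).trans
        (congrArg (fun z : Γ((f ⁻¹ᵁ V).toScheme, d.D i) => z • d.base 1 i le_rfl) ?_)
      rw [d.sectRes_apply, res_res]
    have h2 : res (inf_le_inf_right _ le_top) (b.1 i) =
        res inf_le_left (k.app (d.D i) r) * t.1 i := by
      have h3 := congrArg (fun z : (d.comap k).sect 1 (k ⁻¹ᵁ d.D i) => z.1 i) h1
      simp only [Cocycle.sectRes_apply, Cocycle.smul_apply] at h3
      exact h3
    have hbu : w ∈ (f.fiber y).basicOpen (b.1 i) :=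
      ((d.comap k).mem_locus_iff b hi).1 (hlocus.ge (Opens.mem_top w))
    have hwi : w ∈ k ⁻¹ᵁ d.D i ⊓ (d.comap k).D i := ⟨hi, hi⟩
    have h4 : w ∈ (f.fiber y).basicOpen (res (inf_le_inf_right _ le_top : k ⁻¹ᵁ d.D i ⊓ (d.comap k).D i ≤ ⊤ ⊓ (d.comap k).D i) (b.1 i)) := by
      rw [show res (inf_le_inf_right _ le_top : k ⁻¹ᵁ d.D i ⊓ (d.comap k).D i ≤ ⊤ ⊓ (d.comap k).D i) (b.1 i) =
        (f.fiber y).presheaf.map (homOfLE _).op (b.1 i) from rfl, Scheme.basicOpen_res]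
      exact ⟨hwi, hbu⟩
    rw [h2, Scheme.basicOpen_mul] at h4
    have h5 := h4.1
    rw [show res (inf_le_left : k ⁻¹ᵁ d.D i ⊓ (d.comap k).D i ≤ k ⁻¹ᵁ d.D i) (k.app (d.D i) r) =
        (f.fiber y).presheaf.map (homOfLE _).op (k.app (d.D i) r) from rfl, Scheme.basicOpen_res,
      ← Scheme.preimage_basicOpen] at h5
    refine hw ?_
    have h6 : k w ∈ (f ⁻¹ᵁ V).toScheme.basicOpen r := h5.2
    rw [show r = (f ⁻¹ᵁ V).toScheme.presheaf.map (homOfLE _).op (a.1 i) from rfl, Scheme.basicOpen_res] at h6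
    exact h6.2
  let C : Set Y := f.base '' ((j ''ᵁ d.locus a : X.Opens) : Set X)ᶜ
  have hC : IsClosed C := f.isClosedMap _ (j ''ᵁ d.locus a).isOpen.isClosed_compl
  refine ⟨⟨Cᶜ, hC.isOpen_compl⟩, ?_, ?_⟩
  · rintro ⟨x, hx, rfl⟩
    obtain ⟨w, hw⟩ := show x ∈ Set.range (f.fiberι (f.base x)) by rw [Scheme.Hom.range_fiberι]; rfl
    refine hx ⟨k w, hfib w, ?_⟩
    exact (congrArg (fun q : f.fiber (f.base x) ⟶ X => q w) hk).trans hw
  let U : Y.Opens := ⟨Cᶜ, hC.isOpen_compl⟩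
  have hU : ∀ x : X, x ∈ f ⁻¹ᵁ U → x ∈ j ''ᵁ d.locus a := fun x hx => by
    by_contra h
    exact hx ⟨x, h, rfl⟩
  let l : (f ⁻¹ᵁ U).toScheme ⟶ (f ⁻¹ᵁ V).toScheme := IsOpenImmersion.lift j (f ⁻¹ᵁ U).ι (by
    rintro _ ⟨x, rfl⟩
    obtain ⟨x', -, hx'⟩ := hU _ x.2
    exact ⟨x', hx'⟩)
  have hl : l ≫ j = (f ⁻¹ᵁ U).ι := IsOpenImmersion.lift_fac _ _ _
  have htU : Cube.Triv (d.comap l) := by
    refine ⟨d.pullSect l (le_top : (⊤ : (f ⁻¹ᵁ U).toScheme.Opens) ≤ l ⁻¹ᵁ ⊤) a, ?_⟩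
    rw [d.locus_pullSect l a, top_le_iff.symm]
    intro x _
    obtain ⟨x', hx'm, hx'⟩ := hU _ x.2
    have : l x = x' := j.isOpenEmbedding.injective
      ((congrArg (fun q : (f ⁻¹ᵁ U).toScheme ⟶ X => q x) hl).trans hx'.symm)
    show l x ∈ d.locus a
    rw [this]
    exact hx'm
  have hcU : Cube.Triv (c.comap (f ⁻¹ᵁ U).ι) := by
    rw [← Cube.cls_eq_one_iff, ← Cube.pull_cls, ← hl, ← Cube.pull_comp, Cube.pull_cls _ c, Cube.pull_cls,
      Cube.cls_eq_one_iff]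
    exact htU
  obtain ⟨eU⟩ := c.nonempty_pullback_twist (f ⁻¹ᵁ U).ι 1
  obtain ⟨tU⟩ := (Cube.triv_iff _).1 hcU
  exact ⟨eU ≪≫ tU⟩

end GrothLib.PicRigid6
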