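import Groth.Agent.Lib.PicRigid6.Open
import Groth.Agent.Lib.Cube.Kunneth
import Groth.Agent.Lib.Cube.Base
import Groth.Agent.Lib.CubeRel26.Comp

/-!
# Invertible modules on a product, trivial on the axes and on one fibre
-/

set_option autoImplicit false
set_option linter.style.haveILetI false
set_option backward.isDefEq.respectTransparency false
set_option maxHeartbeats 1000000
universe u

noncomputable section

open CategoryTheory CategoryTheory.Limits Opposite TopologicalSpace AlgebraicGeometry
open MonoidalCategory CartesianMonoidalCategory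
open GrothLib GrothLib.Ample GrothLib.Cube GrothLib.CubeRel26

namespace GrothLib.PicRigid6

variable {X Y S : Scheme.{u}} (f : X ⟶ S) (g : Y ⟶ S)

theorem surjective_cst_of_cnst {W : Scheme.{u}} (w : W ⟶ S)
    (hw : ∀ (T : Scheme.{u}) (t : T ⟶ S) (U : T.Opens), IsIso ((pullback.snd w t).app U))
    {R : Type u} [CommRing R] (t : Spec (CommRingCat.of R) ⟶ S) :
    Function.Surjective (cst (pullback.snd w t) ⊤) := by
  haveI : IsIso (pullback.snd w t).appTop := isIso_appTop_of_app _ (hw _ t)
  intro y
  obtain ⟨r, hr⟩ := (ConcreteCategory.bijective_of_isIso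
    ((Scheme.ΓSpecIso (CommRingCat.of R)).inv ≫ (pullback.snd w t).appTop)).2 y
  refine ⟨r, ?_⟩
  rw [← hr]
  show ((pullback.snd w t).appLE ⊤ ⊤ le_top).hom _ = _
  rw [show (pullback.snd w t).appLE ⊤ ⊤ le_top = (pullback.snd w t).appTop from Scheme.Hom.appLE_eq_app _]
  rfl

/-- An invertible module on a product trivial on both axes and on one fibre is trivial near it. -/
theorem exists_nhd_trivial_product [Flat f] [IsProper f] [LocallyOfFinitePresentation f]
    [Flat g] [IsProper g] [LocallyOfFinitePresentation g]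
    (hOf : ∀ (T : Scheme.{u}) (t : T ⟶ S) (U : T.Opens), IsIso ((pullback.snd f t).app U))
    (hOg : ∀ (T : Scheme.{u}) (t : T ⟶ S) (U : T.Opens), IsIso ((pullback.snd g t).app U))
    (σ : S ⟶ X) (hσ : σ ≫ f = 𝟙 S) (τ : S ⟶ Y) (hτ : τ ≫ g = 𝟙 S) (s : S)
    (L : (pullback f g).Modules) (hL : PicF.IsInvertible L)
    (u : X ⟶ pullback f g) (hu1 : u ≫ pullback.fst f g = 𝟙 X) (hu2 : u ≫ pullback.snd f g = f ≫ τ)
    (v : Y ⟶ pullback f g) (hv1 : v ≫ pullback.fst f g = g ≫ σ) (hv2 : v ≫ pullback.snd f g = 𝟙 Y)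
    (h1 : pull u (clsMod hL) = 1) (h2 : pull v (clsMod hL) = 1)
    (h3 : pull ((pullback.fst f g ≫ f).fiberι s) (clsMod hL) = 1) :
    ∃ U : S.Opens, s ∈ U ∧ pull ((pullback.fst f g ≫ f) ⁻¹ᵁ U).ι (clsMod hL) = 1 := by
  let h := pullback.fst f g ≫ f
  haveI : Flat (pullback.fst f g) := MorphismProperty.pullback_fst _ _ inferInstance
  haveI : IsProper (pullback.fst f g) := MorphismProperty.pullback_fst _ _ inferInstance
  haveI : LocallyOfFinitePresentation (pullback.fst f g) := MorphismProperty.pullback_fst _ _ inferInstance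
  have hu : u ≫ h = f := by rw [reassoc_of% hu1]
  have hv : v ≫ h = g := by rw [← Category.assoc, hv1, Category.assoc, hσ, Category.comp_id]
  haveI : IsClosedImmersion u := by
    haveI : IsSeparated (pullback.fst f g) := MorphismProperty.pullback_fst _ _ inferInstance
    haveI : IsClosedImmersion (u ≫ pullback.fst f g) := by rw [hu1]; infer_instance
    exact IsClosedImmersion.of_comp u (pullback.fst f g)
  haveI : IsClosedImmersion v := by
    haveI : IsSeparated (pullback.snd f g) := MorphismProperty.pullback_snd _ _ inferInstance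
    haveI : IsClosedImmersion (v ≫ pullback.snd f g) := by rw [hv2]; infer_instance
    exact IsClosedImmersion.of_comp v (pullback.snd f g)
  let Ys : ULift.{u} Bool → Scheme.{u} := fun j => match j.down with | true => X | false => Y
  let sl : ∀ j, Ys j ⟶ pullback f g := fun j => match j with | ⟨true⟩ => u | ⟨false⟩ => v
  haveI : ∀ j, IsAffineHom (sl j) := by
    rintro ⟨_ | _⟩
    · exact inferInstanceAs (IsAffineHom v)
    · exact inferInstanceAs (IsAffineHom u)
  haveI : ∀ j, Flat (sl j ≫ h) := by
    rintro ⟨_ | _⟩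
    · show Flat (v ≫ h); rw [hv]; infer_instance
    · show Flat (u ≫ h); rw [hu]; infer_instance
  refine exists_nhd_trivial h (cnst_product f g hOf hOg) L hL s h3 Ys sl ?_ ?_ ?_
  · rintro ⟨_ | _⟩ R _ t
    · show Function.Surjective (cst (pullback.snd (v ≫ h) t) ⊤)
      rw [hv]
      exact surjective_cst_of_cnst g hOg t
    · show Function.Surjective (cst (pullback.snd (u ≫ h) t) ⊤)
      rw [hu]
      exact surjective_cst_of_cnst f hOf t
  · rintro ⟨_ | _⟩
    · exact h2
    · exact h1
  intro K _ k κ U hU t ht hsl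
  let XK : Over (Spec (CommRingCat.of K)) := Over.mk (pullback.snd f k)
  let YK : Over (Spec (CommRingCat.of K)) := Over.mk (pullback.snd g k)
  haveI : IsProper XK.hom := MorphismProperty.pullback_snd f k inferInstance
  haveI : IsProper YK.hom := MorphismProperty.pullback_snd g k inferInstance
  let e : pullback (pullback.snd f k) (pullback.snd g k) ⟶ pullback h k :=
    pullback.lift
      (pullback.lift (pullback.fst _ _ ≫ pullback.fst f k) (pullback.snd _ _ ≫ pullback.fst g k) (by
        simp only [Category.assoc, pullback.condition]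
        exact (reassoc_of% (pullback.condition (f := pullback.snd f k) (g := pullback.snd g k))) k))
      (pullback.fst _ _ ≫ pullback.snd f k) (by
        show pullback.lift _ _ _ ≫ pullback.fst f g ≫ f = _
        rw [pullback.lift_fst_assoc, Category.assoc, Category.assoc, pullback.condition])
  let i : pullback h k ⟶ pullback (pullback.snd f k) (pullback.snd g k) :=
    pullback.lift
      (pullback.lift (pullback.fst h k ≫ pullback.fst f g) (pullback.snd h k) (by
        rw [Category.assoc]; exact pullback.condition))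
      (pullback.lift (pullback.fst h k ≫ pullback.snd f g) (pullback.snd h k) (by
        rw [Category.assoc, ← pullback.condition]; exact pullback.condition))
      (by rw [pullback.lift_snd, pullback.lift_snd])
  haveI : IsIso e := ⟨i, by
      refine pullback.hom_ext (pullback.hom_ext ?_ ?_) (pullback.hom_ext ?_ ?_) <;>
        simp [e, i, pullback.condition], by
      refine pullback.hom_ext (pullback.hom_ext ?_ ?_) ?_ <;> simp [e, i]⟩
  refine sCob_of_spull_isIso (j := e) ?_
  let x₀ : 𝟙_ _ ⟶ XK := Over.homMk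
    (pullback.lift (k ≫ σ) (𝟙 _) (by rw [Category.assoc, hσ, Category.comp_id, Category.id_comp]))
    (pullback.lift_snd _ _ _)
  let y₀ : 𝟙_ _ ⟶ YK := Over.homMk
    (pullback.lift (k ≫ τ) (𝟙 _) (by rw [Category.assoc, hτ, Category.comp_id, Category.id_comp]))
    (pullback.lift_snd _ _ _)
  let e' : (XK ⊗ YK).left ⟶ pullback h k := e
  let lx : YK.left ⟶ pullback (v ≫ h) k :=
    pullback.lift (pullback.fst g k) (pullback.snd g k) (by rw [hv]; exact pullback.condition)
  let ly : XK.left ⟶ pullback (u ≫ h) k :=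
    pullback.lift (pullback.fst f k) (pullback.snd f k) (by rw [hu]; exact pullback.condition)
  have hlx : lx ≫ sliceMap h v k = (lift (toUnit YK ≫ x₀) (𝟙 YK)).left ≫ e' := by
    refine pullback.hom_ext (pullback.hom_ext ?_ ?_) ?_
    · simp [sliceMap, lx, e', e, x₀, XK, YK, hv1]
      exact (reassoc_of% (pullback.condition (f := g) (g := k))) σ
    · simp [sliceMap, lx, e', e, x₀, XK, YK, hv2]
      exact (Category.id_comp _).symm
    · simp [sliceMap, lx, e', e, x₀, XK, YK]
  have hly : ly ≫ sliceMap h u k = (lift (𝟙 XK) (toUnit XK ≫ y₀)).left ≫ e' := by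
    refine pullback.hom_ext (pullback.hom_ext ?_ ?_) ?_
    · simp [sliceMap, ly, e', e, y₀, XK, YK, hu1]
      exact (Category.id_comp _).symm
    · simp [sliceMap, ly, e', e, y₀, XK, YK, hu2]
      exact (reassoc_of% (pullback.condition (f := f) (g := k))) τ
    · simp [sliceMap, ly, e', e, y₀, XK, YK]
      exact (Category.id_comp _).symm
  have hf' : Cnst f := fun K _ k => isIso_appTop_of_app _ (hOf _ k)
  have hg' : Cnst g := fun K _ k => isIso_appTop_of_app _ (hOg _ k)
  exact sCob_of_axes (X := XK) (Y := YK) (hf'.isAntiAffine k)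
    (surjective_appTop_of_isAntiAffine (hg'.isAntiAffine k)) x₀ y₀
    (W := fun a => e' ⁻¹ᵁ U a) (h := spull e' U t)
    (by rw [← Scheme.Hom.preimage_iSup, hU]; rfl) (sCoc_spull ht e')
    (sCob_spull_comp' (lift (toUnit YK ≫ x₀) (𝟙 YK)).left e' ((sCob_spull_congr hlx).1 (sCob_spull lx (hsl ⟨false⟩))))
    (sCob_spull_comp' (lift (𝟙 XK) (toUnit XK ≫ y₀)).left e' ((sCob_spull_congr hly).1 (sCob_spull ly (hsl ⟨true⟩))))
where
  sCob_spull_comp' {A A' A'' : Scheme.{u}} {κ : Type u} {U : κ → A.Opens} {s : ∀ a b, Γ(A, U a ⊓ U b)}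
      (i : A'' ⟶ A') (j : A' ⟶ A) (hs : SCob (fun a => (i ≫ j) ⁻¹ᵁ U a) (spull (i ≫ j) U s)) :
      SCob (fun a => i ⁻¹ᵁ (j ⁻¹ᵁ U a)) (spull i (fun a => j ⁻¹ᵁ U a) (spull j U s)) := by
    rw [spull_spull]; exact hs

end GrothLib.PicRigid6
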