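import Groth.Agent.Lib.PicRigid6.Cnst
import Groth.Agent.Lib.PicRigid6.Good
import Groth.Agent.Lib.CubeRel26.SmallExt
import Groth.Agent.Lib.CubeRel26.Open
import Groth.Agent.Lib.BCCrit.StratumPush

/-!
# Invertible modules trivial on slices and on one fibre are trivial near that fibre
-/

set_option autoImplicit false
set_option linter.style.haveILetI false
set_option backward.isDefEq.respectTransparency false
set_option maxHeartbeats 1000000
universe u

noncomputable section

open CategoryTheory CategoryTheory.Limits Opposite TopologicalSpace AlgebraicGeometry IsLocalRing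
open GrothLib GrothLib.Ample GrothLib.Cube GrothLib.CubeRel26 GrothLib.Seesaw26

namespace GrothLib.PicRigid6

theorem appLE_fromSpec {X : Scheme.{u}} {R : CommRingCat.{u}} {U : X.Opens} (hU : IsAffineOpen U)
    (φ : Γ(X, U) ⟶ R) (h : (⊤ : (Spec R).Opens) ≤ (Spec.map φ ≫ hU.fromSpec) ⁻¹ᵁ U) :
    (Spec.map φ ≫ hU.fromSpec).appLE U ⊤ h = φ ≫ (Scheme.ΓSpecIso R).inv := by
  have h0 : (⊤ : (Spec Γ(X, U)).Opens) ≤ hU.fromSpec ⁻¹ᵁ U := by rw [hU.fromSpec_preimage_self]
  rw [← Scheme.Hom.appLE_comp_appLE (Spec.map φ) hU.fromSpec U ⊤ ⊤ h0 le_top, Scheme.ΓSpecIso_inv_naturality]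
  have e1 : hU.fromSpec.appLE U ⊤ h0 = (Scheme.ΓSpecIso Γ(X, U)).inv := by
    rw [Scheme.Hom.appLE, hU.fromSpec_app_self, Category.assoc, ← Functor.map_comp]
    simp
  rw [e1]
  congr 1

variable {P Z : Scheme.{u}} (h : P ⟶ Z) [Flat h] [IsProper h] [LocallyOfFinitePresentation h]

theorem pull_opens_eq_one_of_gen {X : Scheme.{u}} {L : X.Modules} (hL : PicF.IsInvertible L) {U : X.Opens}
    (e : Nonempty ((Scheme.Modules.pullback U.ι).obj L ≅ Coh.structureModule U.toScheme)) :
    pull U.ι (clsMod hL) = 1 := by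
  rw [← clsMod_pullback, clsMod_eq_one_iff]
  exact e

/-- A family pulled back trivially has good base change of rank one. -/
theorem pt_of_triv (hh : Cnst h) {L : P.Modules} (hL : PicF.IsInvertible L) {T : Scheme.{u}} (u : T ⟶ Z)
    (ht : pull (pullback.fst h u) (clsMod hL) = 1) : BCCrit.Pt h L 1 u := by
  intro t
  haveI : Flat (pullback.snd h u) := MorphismProperty.pullback_snd _ _ inferInstance
  haveI : IsProper (pullback.snd h u) := MorphismProperty.pullback_snd _ _ inferInstance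
  haveI : LocallyOfFinitePresentation (pullback.snd h u) := MorphismProperty.pullback_snd _ _ inferInstance
  have hL' := Ample.isInvertible_pullback (pullback.fst h u) hL
  obtain ⟨e⟩ := (clsMod_eq_one_iff hL').1 (by rw [clsMod_pullback _ hL]; exact ht)
  have h0 := (hh.pullback u).finrank t
  let i : (Scheme.Modules.pullback (pullback.snd h u)).obj (Coh.structureModule T) ≅
      (Scheme.Modules.pullback (pullback.fst h u)).obj L := PicLoc.pullbackStructureIso _ ≪≫ e.symm
  haveI : ((Scheme.Modules.pullback (pullback.fst h u)).obj L).IsQuasicoherent :=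
    InvExt.isQuasicoherent_of_isInvertible hL'
  refine ⟨?_, fiberRank_eq_one _ _ t h0 ⟨(Scheme.Modules.pullback ((pullback.snd h u).fiberι t)).mapIso e ≪≫
    PicLoc.pullbackStructureIso _⟩⟩
  haveI : Coh.IsQCoh ((Scheme.Modules.pullback (pullback.fst h u)).obj L) :=
    InvExt.isQuasicoherent_of_isInvertible hL'
  obtain ⟨U, hU, e₀, he₀⟩ := exists_gen_preimage_of_base (pullback.snd h u) Euler.isInvertible_structure i t
  exact (BCCrit.goodAll_iff_epi0 (LocFree8.isFP_of_isFinLocFree _ (Euler.isFinLocFree_of_isInvertible hL'))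
    (isFlatOver_of_isInvertible _ hL') t).2 (epi_bc0_of_gen _ _ hL' t h0 U hU e₀ he₀)

/-- With good base change, a family trivial on one fibre is trivial near it. -/
theorem exists_nhd_of_pt (hh : Cnst h) {L : P.Modules} (hL : PicF.IsInvertible L) {T : Scheme.{u}} (u : T ⟶ Z)
    (hpt : BCCrit.Pt h L 1 u) (t : T) (ht : pull (h.fiberι (u t)) (clsMod hL) = 1) :
    ∃ U : T.Opens, t ∈ U ∧
      pull (pullback.snd h u ⁻¹ᵁ U).ι (pull (pullback.fst h u) (clsMod hL)) = 1 := by
  haveI : Flat (pullback.snd h u) := MorphismProperty.pullback_snd _ _ inferInstance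
  haveI : IsProper (pullback.snd h u) := MorphismProperty.pullback_snd _ _ inferInstance
  haveI : LocallyOfFinitePresentation (pullback.snd h u) := MorphismProperty.pullback_snd _ _ inferInstance
  have hL' := Ample.isInvertible_pullback (pullback.fst h u) hL
  obtain ⟨c, ⟨e⟩⟩ := exists_cocycle hL'
  have hc : cls c = pull (pullback.fst h u) (clsMod hL) := by rw [← clsMod_eq hL' e, clsMod_pullback _ hL]
  let f' := pullback.snd h u
  let a : f'.fiber t ⟶ h.fiber (u t) := pullback.lift (f'.fiberι t ≫ pullback.fst h u)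
    (f'.fiberToSpecResidueField t ≫ Spec.map (u.residueFieldMap t)) (by
      rw [Category.assoc, Category.assoc, pullback.condition, ← Category.assoc, f'.fiber_fac t, Category.assoc,
        Scheme.Hom.SpecMap_residueFieldMap_fromSpecResidueField])
  have htriv : Triv (c.comap (f'.fiberι t)) := by
    rw [← cls_eq_one_iff, ← pull_cls, hc, pull_comp, show f'.fiberι t ≫ pullback.fst h u = a ≫ h.fiberι (u t) from
      (pullback.lift_fst _ _ _).symm, ← pull_comp, ht, map_one]
  obtain ⟨U, htU, ⟨eU⟩⟩ := exists_nhd_gen_of_good_at f' c e t ((hh.pullback u).finrank t) htriv (hpt t).1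
  refine ⟨U, htU, ?_⟩
  rw [← hc, ← clsMod_eq (c.isInvertible_twist 1) (Iso.refl _)]
  exact pull_opens_eq_one_of_gen _ ⟨eU⟩

/-- Over a local scheme good base change and a trivial closed fibre give triviality. -/
theorem triv_of_pt_local (hh : Cnst h) {L : P.Modules} (hL : PicF.IsInvertible L) {R : Type u} [CommRing R]
    [IsLocalRing R] (u : Spec (CommRingCat.of R) ⟶ Z) (hpt : BCCrit.Pt h L 1 u)
    (ht : pull (h.fiberι (u (closedPoint R))) (clsMod hL) = 1) :
    pull (pullback.fst h u) (clsMod hL) = 1 := by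
  obtain ⟨U, htU, hU⟩ := exists_nhd_of_pt h hh hL u hpt (closedPoint R) ht
  have htop : ⊤ ≤ pullback.snd h u ⁻¹ᵁ U := fun x _ =>
    (IsLocalRing.specializes_closedPoint (pullback.snd h u x)).mem_open U.2 htU
  let j : pullback h u ⟶ (pullback.snd h u ⁻¹ᵁ U).toScheme :=
    IsOpenImmersion.lift (pullback.snd h u ⁻¹ᵁ U).ι (𝟙 _) (by
      rintro x -
      rw [Scheme.Opens.range_ι]
      exact htop trivial)
  have := congrArg (pull j) hU
  rwa [pull_comp, IsOpenImmersion.lift_fac, pull_id, map_one] at this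

set_option maxHeartbeats 3000000 in
/-- Invertible modules trivial on enough slices and on the fibre of a point are trivial near it. -/
theorem exists_nhd_trivial (hh : Cnst h) (L : P.Modules) (hL : PicF.IsInvertible L) (s : Z)
    (hs : pull (h.fiberι s) (clsMod hL) = 1) {J : Type u} (Y : J → Scheme.{u}) (σ : ∀ j, Y j ⟶ P)
    [∀ j, IsAffineHom (σ j)] [∀ j, Flat (σ j ≫ h)]
    (hΓ : ∀ (j : J) (R : Type u) [CommRing R] (g : Spec (CommRingCat.of R) ⟶ Z),
      Function.Surjective (cst (pullback.snd (σ j ≫ h) g) ⊤))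
    (hσ : ∀ j, pull (σ j) (clsMod hL) = 1)
    (hH1 : ∀ (K : Type u) [Field K] (g : Spec (CommRingCat.of K) ⟶ Z) (κ : Type u)
      (U : κ → (pullback h g).Opens), (⨆ a, U a = ⊤) → ∀ t, SCoc U t →
      (∀ j, SCob (fun a => sliceMap h (σ j) g ⁻¹ᵁ U a) (spull (sliceMap h (σ j) g) U t)) → SCob U t) :
    ∃ U : Z.Opens, s ∈ U ∧ pull (h ⁻¹ᵁ U).ι (clsMod hL) = 1 := by
  classical
  set c := clsMod hL with hc
  haveI : L.IsQuasicoherent := InvExt.isQuasicoherent_of_isInvertible hL
  haveI : Coh.IsQCoh L := ‹L.IsQuasicoherent›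
  obtain ⟨V, hV, I, J', hsV, hI, -, hchart⟩ := BCCrit.exists_chart (f := h) (F := L) 1
    (LocFree8.isFP_of_isFinLocFree _ (Euler.isFinLocFree_of_isInvertible hL)) (isFlatOver_of_isInvertible h hL) s
  -- good base change over affine schemes mapping to the chart
  have hptV : ∀ {R : Type u} [CommRing R] (g : Γ(Z, V) ⟶ CommRingCat.of R),
      BCCrit.Pt h L 1 (Spec.map g ≫ hV.fromSpec) ↔ I.map g.hom = ⊥ ∧ J'.map g.hom = ⊤ := by
    intro R _ g
    have e : (⊤ : (Spec (CommRingCat.of R)).Opens) ≤ (Spec.map g ≫ hV.fromSpec) ⁻¹ᵁ V := fun x _ => by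
      show (Spec.map g ≫ hV.fromSpec) x ∈ V
      rw [Scheme.Hom.comp_apply]
      exact hV.range_fromSpec.le ⟨_, rfl⟩
    refine Iff.trans ⟨fun hp t _ => hp t, fun hp t => hp t trivial⟩ ((hchart.2 _ ⊤ (isAffineOpen_top _) e).trans ?_)
    rw [appLE_fromSpec hV g e]
    let θ := (Scheme.ΓSpecIso (CommRingCat.of R)).symm.commRingCatIsoToRingEquiv
    rw [CommRingCat.hom_comp, ← Ideal.map_map, ← Ideal.map_map]
    exact and_congr (Ideal.map_eq_bot_iff_of_injective θ.injective) ⟨fun hJ => by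
      rw [← Ideal.comap_map_of_bijective (f := θ) θ.bijective (I := J'.map g.hom),
        show (J'.map g.hom).map θ = ⊤ from hJ, Ideal.comap_top], fun hJ => by rw [hJ, Ideal.map_top]⟩
  let O := Z.presheaf.stalk s
  let germ := Z.presheaf.germ V s hsV
  have hgerm : ∀ {R : Type u} [CommRing R] (m : O ⟶ CommRingCat.of R),
      BCCrit.Pt h L 1 (Spec.map m ≫ Z.fromSpecStalk s) ↔
        (I.map germ.hom).map m.hom = ⊥ ∧ (J'.map germ.hom).map m.hom = ⊤ := by
    intro R _ m
    rw [← hV.fromSpecStalk_eq_fromSpecStalk hsV, IsAffineOpen.fromSpecStalk, ← Spec.map_comp_assoc, hptV,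
      CommRingCat.hom_comp, ← Ideal.map_map, ← Ideal.map_map]
  -- the residue field
  have hres := (hgerm (R := Z.residueField s) (Z.residue s)).1 (pt_of_triv h hh hL _ (by
    show pull (pullback.fst h (Z.fromSpecResidueField s)) c = 1
    exact hs))
  have hIm : I.map germ.hom ≤ maximalIdeal O :=
    (Ideal.map_eq_bot_iff_le_ker _).1 hres.1 |>.trans_eq (IsLocalRing.ker_residue (R := O))
  have hJtop : J'.map germ.hom = ⊤ := by
    by_contra hne
    have : (J'.map germ.hom).map (Z.residue s).hom = ⊥ :=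
      (Ideal.map_eq_bot_iff_le_ker _).2 ((le_maximalIdeal hne).trans_eq (IsLocalRing.ker_residue (R := O)).symm)
    exact bot_ne_top (this.symm.trans hres.2)
  have hI0 : I.map germ.hom = ⊥ := by
    by_contra hI0
    obtain ⟨K', π, hK', hπI, hπ, hsup, hπm⟩ := exists_colength_one (I.map germ.hom) (hI.map _) hI0
    let B := O ⧸ K'
    let B₁ := O ⧸ I.map germ.hom
    haveI : Nontrivial B₁ := Ideal.Quotient.nontrivial_iff.2
      (ne_top_of_le_ne_top (maximalIdeal.isMaximal O).ne_top hIm)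
    haveI : IsLocalRing B₁ := IsLocalRing.of_surjective' (Ideal.Quotient.mk _) Ideal.Quotient.mk_surjective
    let ψ : B →+* B₁ := Ideal.Quotient.factor hK'
    let φ : B →+* Z.residueField s := Ideal.Quotient.lift K' (Z.residue s).hom fun x hx => by
      exact (IsLocalRing.residue_eq_zero_iff x).2 (hIm (hK' hx))
    let t : Spec (CommRingCat.of B) ⟶ Z :=
      Spec.map (CommRingCat.ofHom (Ideal.Quotient.mk K')) ≫ Z.fromSpecStalk s
    let t₁ : Spec (CommRingCat.of B₁) ⟶ Z := Spec.map (CommRingCat.ofHom ψ) ≫ t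
    let t₀ : Spec (CommRingCat.of (Z.residueField s)) ⟶ Z := Spec.map (CommRingCat.ofHom φ) ≫ t
    have hψ : Function.Surjective ψ := Ideal.Quotient.factor_surjective hK'
    have hφ : Function.Surjective φ := fun r => by
      obtain ⟨x, hx⟩ := IsLocalRing.residue_surjective (R := O) r
      exact ⟨Ideal.Quotient.mk K' x, hx⟩
    have hkerψ : RingHom.ker ψ = Ideal.span {Ideal.Quotient.mk K' π} := by
      rw [show RingHom.ker ψ = (I.map germ.hom).map (Ideal.Quotient.mk K') from Ideal.Quotient.factor_ker hK', hsup,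
        Ideal.map_sup, Ideal.map_quotient_self, bot_sup_eq, Ideal.map_span, Set.image_singleton]
    have hφx : ∀ x : O, φ (Ideal.Quotient.mk K' x) = 0 ↔ x ∈ maximalIdeal O := fun x =>
      IsLocalRing.residue_eq_zero_iff x
    have hann : ∀ b, φ b = 0 ↔ Ideal.Quotient.mk K' π * b = 0 := by
      intro b
      obtain ⟨x, rfl⟩ := Ideal.Quotient.mk_surjective b
      rw [hφx, ← map_mul, Ideal.Quotient.eq_zero_iff_mem]
      refine ⟨fun hx => mul_comm x π ▸ hπm x hx, fun hx => ?_⟩
      by_contra hc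
      exact hπ ((Ideal.mul_unit_mem_iff_mem K' (IsLocalRing.notMem_maximalIdeal.1 hc)).1 hx)
    let PB := pullback h t
    let f : PB ⟶ Spec (CommRingCat.of B) := pullback.snd h t
    haveI : IsProper f := MorphismProperty.pullback_snd h t inferInstance
    haveI : Flat f := MorphismProperty.pullback_snd h t inferInstance
    obtain ⟨c₀, hc₀⟩ := Quotient.exists_rep (pull (pullback.fst h t) c)
    change cls c₀ = _ at hc₀
    let j₁ : pullback h t₁ ⟶ PB :=
      pullback.lift (pullback.fst h t₁) (pullback.snd h t₁ ≫ Spec.map (CommRingCat.ofHom ψ))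
        (by rw [Category.assoc]; exact pullback.condition)
    let j₀ : pullback h t₀ ⟶ PB :=
      pullback.lift (pullback.fst h t₀) (pullback.snd h t₀ ≫ Spec.map (CommRingCat.ofHom φ))
        (by rw [Category.assoc]; exact pullback.condition)
    have sq : ∀ {W P' T' T : Scheme.{u}} (k : W ⟶ Z) (a : T ⟶ Z) (b : T' ⟶ T) (j : P' ⟶ pullback k a)
        (p : P' ⟶ T'), j ≫ pullback.snd k a = p ≫ b → IsPullback (j ≫ pullback.fst k a) p k (b ≫ a) →
        IsPullback j p (pullback.snd k a) b := fun k a b j p e H =>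
      IsPullback.of_right H e (IsPullback.of_hasPullback k a)
    have H₁ : IsPullback j₁ (pullback.snd h t₁) f (Spec.map (CommRingCat.ofHom ψ)) :=
      sq h t _ j₁ _ (pullback.lift_snd _ _ _) (by
        rw [pullback.lift_fst]; exact IsPullback.of_hasPullback h t₁)
    have H₀ : IsPullback j₀ (pullback.snd h t₀) f (Spec.map (CommRingCat.ofHom φ)) :=
      sq h t _ j₀ _ (pullback.lift_snd _ _ _) (by
        rw [pullback.lift_fst]; exact IsPullback.of_hasPullback h t₀)
    have h₁ : Triv (c₀.comap j₁) := by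
      rw [← cls_eq_one_iff, ← pull_cls, hc₀, pull_comp, pullback.lift_fst]
      have e : t₁ = Spec.map (CommRingCat.ofHom (Ideal.Quotient.mk (I.map germ.hom))) ≫ Z.fromSpecStalk s := by
        simp only [t₁, t, ← Spec.map_comp_assoc]
        rfl
      refine triv_of_pt_local h hh hL t₁ (e ▸ (hgerm _).2 ⟨Ideal.map_quotient_self _, by
        rw [hJtop, Ideal.map_top]⟩) ?_
      rw [show t₁ (closedPoint B₁) = s from ?_]
      · exact hs
      · haveI : IsLocalHom (Ideal.Quotient.mk (I.map germ.hom)) := .of_surjective _ Ideal.Quotient.mk_surjective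
        rw [e, Scheme.Hom.comp_apply]
        refine (congrArg _ ?_).trans Scheme.fromSpecStalk_closedPoint
        exact IsLocalRing.comap_closedPoint (Ideal.Quotient.mk (I.map germ.hom))
    let YB : J → Scheme.{u} := fun j => pullback (σ j ≫ h) t
    let σB : ∀ j, YB j ⟶ PB := fun j => sliceMap h (σ j) t
    have hσBf : ∀ j, σB j ≫ f = pullback.snd (σ j ≫ h) t := fun j => pullback.lift_snd _ _ _
    haveI : ∀ j, IsAffineHom (σB j) := fun j => by
      have hpb : IsPullback (pullback.fst (σ j ≫ h) t) (σB j) (σ j) (pullback.fst h t) :=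
        IsPullback.of_bot (v₁₁ := σB j) (v₂₁ := pullback.snd h t) (v₁₂ := σ j) (v₂₂ := h) (by
          rw [show σB j ≫ pullback.snd h t = pullback.snd (σ j ≫ h) t from hσBf j]
          exact IsPullback.of_hasPullback (σ j ≫ h) t)
          (pullback.lift_fst _ _ _).symm (IsPullback.of_hasPullback h t)
      exact MorphismProperty.of_isPullback hpb inferInstance
    haveI : ∀ j, Flat (σB j ≫ f) := fun j => by
      rw [hσBf j]; exact MorphismProperty.pullback_snd _ t inferInstance
    let i₁ : ∀ j, pullback (σ j ≫ h) t₁ ⟶ YB j := fun j =>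
      pullback.lift (pullback.fst _ t₁) (pullback.snd _ t₁ ≫ Spec.map (CommRingCat.ofHom ψ))
        (by simp only [Category.assoc]; exact pullback.condition)
    let i₀ : ∀ j, pullback (σ j ≫ h) t₀ ⟶ YB j := fun j =>
      pullback.lift (pullback.fst _ t₀) (pullback.snd _ t₀ ≫ Spec.map (CommRingCat.ofHom φ))
        (by simp only [Category.assoc]; exact pullback.condition)
    have HY₁ : ∀ j, IsPullback (i₁ j) (pullback.snd (σ j ≫ h) t₁) (σB j ≫ f)
        (Spec.map (CommRingCat.ofHom ψ)) := fun j => by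
      rw [hσBf j]
      exact sq (σ j ≫ h) t _ (i₁ j) _ (pullback.lift_snd _ _ _) (by
        rw [pullback.lift_fst]; exact IsPullback.of_hasPullback _ t₁)
    have HY₀ : ∀ j, IsPullback (i₀ j) (pullback.snd (σ j ≫ h) t₀) (σB j ≫ f)
        (Spec.map (CommRingCat.ofHom φ)) := fun j => by
      rw [hσBf j]
      exact sq (σ j ≫ h) t _ (i₀ j) _ (pullback.lift_snd _ _ _) (by
        rw [pullback.lift_fst]; exact IsPullback.of_hasPullback _ t₀)
    have hσB : ∀ j, Triv (c₀.comap (σB j)) := fun j => by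
      rw [← cls_eq_one_iff, ← pull_cls, hc₀, pull_comp]
      show pull (sliceMap h (σ j) t ≫ pullback.fst h t) c = 1
      rw [sliceMap, pullback.lift_fst, ← pull_comp, hσ j, map_one]
    have htriv := triv_of_slices H₁ hψ hkerψ H₀ hφ hann ((hφx π).2 (hIm hπI)) c₀ h₁ YB
      (fun j => pullback (σ j ≫ h) t₁) (fun j => pullback (σ j ≫ h) t₀) σB i₁
      (fun j => pullback.snd (σ j ≫ h) t₁) HY₁ i₀ (fun j => pullback.snd (σ j ≫ h) t₀) HY₀
      (fun j => hΓ j _ t₁) hσB (fun j => sliceMap h (σ j) t₀)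
      (fun j => by
        refine pullback.hom_ext ?_ ?_
        · simp [sliceMap, j₀, i₀, σB]
        · simp [sliceMap, j₀, i₀, σB])
      (hH1 _ t₀)
    rw [← cls_eq_one_iff, hc₀] at htriv
    have h' := (Ideal.map_eq_bot_iff_le_ker _).1 ((hgerm _).1 (pt_of_triv h hh hL t htriv)).1
    exact hπ (Ideal.Quotient.eq_zero_iff_mem.1 (h' hπI))
  -- shrink the chart
  obtain ⟨S₀, hS₀⟩ := hI
  have hgen : ∀ x ∈ S₀, ∃ (W : Z.Opens) (hW : W ≤ V), s ∈ W ∧ res hW x = 0 := fun x hx => by
    have h0 : germ.hom x = 0 := by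
      have h0' : germ.hom x ∈ I.map germ.hom :=
        Ideal.mem_map_of_mem _ (show x ∈ I from hS₀ ▸ Ideal.subset_span hx)
      rwa [hI0, Ideal.mem_bot] at h0'
    obtain ⟨W, hsW, iU, iU', he⟩ := Z.presheaf.germ_eq s hsV hsV x 0 (h0.trans (map_zero _).symm)
    exact ⟨W, iU.le, hsW, by rw [map_zero] at he; exact he⟩
  choose W hW hsW hW0 using hgen
  obtain ⟨a, haJ, ha⟩ : ∃ a ∈ J', s ∈ Z.basicOpen a := by
    by_contra hcon
    refine (maximalIdeal.isMaximal O).ne_top (top_le_iff.1 (hJtop.ge.trans (Ideal.map_le_iff_le_comap.2 fun a haJ => ?_)))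
    refine (mem_maximalIdeal _).2 fun hu => hcon ⟨a, haJ, ?_⟩
    exact (Z.toRingedSpace.mem_basicOpen a s hsV).2 hu
  let V₀ : Z.Opens := Z.basicOpen a ⊓ S₀.attach.inf fun x => W x.1 x.2
  have hsV₀ : s ∈ V₀ := ⟨ha, (Finset.inf_induction (f := fun x : S₀ => W x.1 x.2) (s := S₀.attach)
    (p := fun U : Z.Opens => s ∈ U) trivial (fun _ h₁ _ h₂ => ⟨h₁, h₂⟩) fun x _ => hsW x.1 x.2)⟩
  obtain ⟨V', hV', hsV', hle⟩ := exists_isAffineOpen_mem_and_subset hsV₀
  have hVV : V' ≤ V := fun y hy => Z.basicOpen_le a (hle hy).1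
  have hpt : BCCrit.Pt h L 1 hV'.fromSpec := by
    rw [← hV.map_fromSpec hV' (homOfLE hVV).op]
    refine (hptV _).2 ⟨?_, ?_⟩
    · rw [Ideal.map_eq_bot_iff_le_ker, ← hS₀, Ideal.span_le]
      intro x hx
      have hV'x : V' ≤ W x hx := fun y hy =>
        (Finset.inf_le (f := fun x : S₀ => W x.1 x.2) (Finset.mem_attach S₀ ⟨x, hx⟩)) (hle hy).2
      show res hVV x = 0
      exact (res_res (hW x hx) hV'x x).symm.trans ((congrArg (res hV'x) (hW0 x hx)).trans (map_zero _))
    · refine Ideal.eq_top_of_isUnit_mem _ (Ideal.mem_map_of_mem _ haJ) ?_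
      show IsUnit (res hVV a)
      have := ((RingedSpace.isUnit_res_basicOpen Z.toRingedSpace a)).map
        (res (fun y hy => (hle hy).1 : V' ≤ Z.basicOpen a))
      convert this using 1
      exact (res_res (Z.basicOpen_le a) _ a).symm
  obtain ⟨p, hp⟩ := hV'.range_fromSpec.ge hsV'
  obtain ⟨U', hpU, hU'⟩ := exists_nhd_of_pt h hh hL hV'.fromSpec hpt p (hp.symm ▸ hs)
  refine ⟨hV'.fromSpec ''ᵁ U', ⟨p, hpU, hp⟩, ?_⟩
  let U := hV'.fromSpec ''ᵁ U'
  have hr : Set.range ((h ⁻¹ᵁ U).ι ≫ h) ⊆ Set.range hV'.fromSpec := by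
    rintro _ ⟨x, rfl⟩
    obtain ⟨q, -, hq⟩ : h ((h ⁻¹ᵁ U).ι x) ∈ U := x.2
    exact ⟨q, hq⟩
  let a₀ : (h ⁻¹ᵁ U).toScheme ⟶ pullback h hV'.fromSpec :=
    pullback.lift (h ⁻¹ᵁ U).ι (IsOpenImmersion.lift hV'.fromSpec _ hr) (IsOpenImmersion.lift_fac _ _ _).symm
  have hr' : Set.range a₀ ⊆ Set.range (pullback.snd h hV'.fromSpec ⁻¹ᵁ U').ι := by
    rintro _ ⟨x, rfl⟩
    rw [Scheme.Opens.range_ι]
    show pullback.snd h hV'.fromSpec (a₀ x) ∈ U'
    obtain ⟨q, hq, hq'⟩ : h ((h ⁻¹ᵁ U).ι x) ∈ U := x.2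
    rw [← Scheme.Hom.comp_apply, pullback.lift_snd]
    have e2 := congrArg (fun k : (h ⁻¹ᵁ U).toScheme ⟶ Z => k x) (IsOpenImmersion.lift_fac hV'.fromSpec _ hr)
    exact (hV'.fromSpec.isOpenEmbedding.injective (hq'.trans e2.symm)) ▸ hq
  have e := congrArg (pull (IsOpenImmersion.lift _ a₀ hr')) hU'
  rwa [pull_comp, IsOpenImmersion.lift_fac, pull_comp, pullback.lift_fst, map_one] at e

end GrothLib.PicRigid6
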